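import Mathlib
import Cfsg.Prelude.Def_Local
import Cfsg.Agent.SignalizersComponents.StandardTools
set_option linter.all false

/-!
# Pairs of conjugates of a standard subgroup

`C A`, `N A`: centralizer and normalizer; `Cj A B`: `B` is conjugate to `A`; `TE A`: the consequences of
"`A` is a simple standard subgroup" used below.

`exists_good_pair`: if `4 ∣ |C A|` and some involution of a conjugate of `C A` normalizes `A` without centralizing
it, then `4 ∣ |C A ⊓ N B|` for some conjugate `B ≠ A` of `A`, provided each involution `y` inducing an outer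
automorphism on `A` commutes with an involution `s ∈ A` such that `s y` and `y` are conjugate under `A`.
-/

set_option autoImplicit false

namespace Cfsg.Agent.StdAlt.Conj

open Subgroup

variable {G : Type*} [Group G] {A B : Subgroup G}

/-- the centralizer -/
abbrev C (A : Subgroup G) : Subgroup G := centralizer (A : Set G)

/-- the normalizer -/
abbrev N (A : Subgroup G) : Subgroup G := normalizer (A : Set G)

theorem mem_C {k : G} : k ∈ C A ↔ ∀ a ∈ A, k * a = a * k := by
  rw [mem_centralizer_iff]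
  exact ⟨fun h a ha => (h a ha).symm, fun h a ha => (h a ha).symm⟩

theorem mem_N {g : G} : g ∈ N A ↔ ∀ a, a ∈ A ↔ g * a * g⁻¹ ∈ A := mem_normalizer_iff

theorem mem_N_of [Finite G] {g : G} (h : ∀ a ∈ A, g * a * g⁻¹ ∈ A) : g ∈ N A :=
  mem_normalizer_fintype h

theorem conj_mem {g : G} (hg : g ∈ N A) {a : G} (ha : a ∈ A) : g * a * g⁻¹ ∈ A := (mem_N.1 hg a).1 ha

theorem conj_mem' {g : G} (hg : g ∈ N A) {a : G} (ha : a ∈ A) : g⁻¹ * a * g ∈ A := by
  have := conj_mem (inv_mem hg) ha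
  rwa [inv_inv] at this

theorem C_le_N : C A ≤ N A := centralizer_le_normalizer _

theorem le_N : A ≤ N A := le_normalizer

theorem conj_mem_C {g : G} (hg : g ∈ N A) {k : G} (hk : k ∈ C A) : g * k * g⁻¹ ∈ C A := by
  rw [mem_C] at hk ⊢
  intro a ha
  have h1 := hk _ (conj_mem' hg ha)
  calc g * k * g⁻¹ * a = g * (k * (g⁻¹ * a * g)) * g⁻¹ := by group
    _ = g * ((g⁻¹ * a * g) * k) * g⁻¹ := by rw [h1]
    _ = a * (g * k * g⁻¹) := by group

theorem conj_mem_C' {g : G} (hg : g ∈ N A) {k : G} (hk : k ∈ C A) : g⁻¹ * k * g ∈ C A := by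
  have := conj_mem_C (inv_mem hg) hk
  rwa [inv_inv] at this

theorem N_le_N_C : N A ≤ N (C A) := by
  intro g hg
  rw [mem_N]
  intro k
  constructor
  · exact conj_mem_C hg
  · intro h
    have := conj_mem_C' hg h
    rwa [show g⁻¹ * (g * k * g⁻¹) * g = k by group] at this

theorem comm_of_C {k a : G} (hk : k ∈ C A) (ha : a ∈ A) : k * a = a * k := mem_C.1 hk a ha

/-- `B` is conjugate to `A` -/
def Cj (A B : Subgroup G) : Prop := ∃ g : G, ∀ x, x ∈ A ↔ g * x * g⁻¹ ∈ B

theorem Cj.refl (A : Subgroup G) : Cj A A := ⟨1, fun l => by simp⟩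

theorem Cj.symm (h : Cj A B) : Cj B A := by
  obtain ⟨g, hg⟩ := h
  refine ⟨g⁻¹, fun l => ?_⟩
  rw [hg, show g * (g⁻¹ * l * g⁻¹⁻¹) * g⁻¹ = l by group]

theorem Cj.trans {D : Subgroup G} (h : Cj A B) (h' : Cj B D) : Cj A D := by
  obtain ⟨g, hg⟩ := h
  obtain ⟨g', hg'⟩ := h'
  refine ⟨g' * g, fun l => ?_⟩
  rw [hg, hg', show g' * (g * l * g⁻¹) * g'⁻¹ = g' * g * l * (g' * g)⁻¹ by group]

/-- the conjugate subgroup -/
abbrev cj (g : G) (A : Subgroup G) : Subgroup G := A.map (MulAut.conj g).toMonoidHom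

theorem mem_cj {g x : G} : x ∈ cj g A ↔ g⁻¹ * x * g ∈ A := by
  constructor
  · rintro ⟨y, hy, rfl⟩
    rw [show g⁻¹ * (MulAut.conj g).toMonoidHom y * g = y by simp [mul_assoc]]
    exact hy
  · intro h
    exact ⟨_, h, by simp [mul_assoc]⟩

theorem conj_mem_cj {g x : G} : g * x * g⁻¹ ∈ cj g A ↔ x ∈ A := by
  rw [mem_cj, show g⁻¹ * (g * x * g⁻¹) * g = x by group]

theorem Cj.cj (A : Subgroup G) (g : G) : Cj A (cj g A) := ⟨g, fun _ => conj_mem_cj.symm⟩

theorem Cj.exists_eq (h : Cj A B) : ∃ g, B = Conj.cj g A := by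
  obtain ⟨g, hg⟩ := h
  refine ⟨g, ?_⟩
  ext x
  rw [mem_cj, hg, show g * (g⁻¹ * x * g) * g⁻¹ = x by group]

theorem cj_eq_iff {g : G} : cj g A = A ↔ g ∈ N A := by
  rw [mem_N]
  constructor
  · intro h a
    rw [← conj_mem_cj (g := g), h]
  · intro h
    ext x
    rw [mem_cj, h, show g * (g⁻¹ * x * g) * g⁻¹ = x by group]

theorem cj_cj (g h : G) : cj g (cj h A) = cj (g * h) A := by
  ext x
  rw [mem_cj, mem_cj, mem_cj, mul_inv_rev]
  simp only [mul_assoc]

theorem mem_C_cj {g x : G} : x ∈ C (cj g A) ↔ g⁻¹ * x * g ∈ C A := by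
  rw [mem_C, mem_C]
  constructor
  · intro h a ha
    have h1 := h _ (conj_mem_cj (g := g).2 ha)
    calc g⁻¹ * x * g * a = g⁻¹ * (x * (g * a * g⁻¹)) * g := by group
      _ = g⁻¹ * (g * a * g⁻¹ * x) * g := by rw [h1]
      _ = a * (g⁻¹ * x * g) := by group
  · intro h a ha
    have h1 := h _ (mem_cj.1 ha)
    calc x * a = g * (g⁻¹ * x * g * (g⁻¹ * a * g)) * g⁻¹ := by group
      _ = g * (g⁻¹ * a * g * (g⁻¹ * x * g)) * g⁻¹ := by rw [h1]
      _ = a * x := by group

theorem mem_N_cj {g x : G} : x ∈ N (cj g A) ↔ g⁻¹ * x * g ∈ N A := by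
  rw [← cj_eq_iff, ← cj_eq_iff, cj_cj]
  constructor
  · intro h
    rw [← cj_cj, ← cj_cj, cj_cj x, h, cj_cj, inv_mul_cancel]
    ext y
    rw [mem_cj]
    simp
  · intro h
    have h1 : cj g (cj (g⁻¹ * x * g) A) = cj g A := by rw [h]
    rw [cj_cj, show g * (g⁻¹ * x * g) = x * g by group] at h1
    exact h1

theorem card_cj (g : G) : Nat.card (cj g A) = Nat.card A :=
  Nat.card_congr (A.equivMapOfInjective _ (MulAut.conj g).injective).toEquiv.symm

/-- if conjugation by `g` maps `A` onto `B` then `|A| = |B|` -/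
theorem card_eq_of_conj {g : G} (h : ∀ x, x ∈ A ↔ g * x * g⁻¹ ∈ B) : Nat.card A = Nat.card B := by
  have : B = cj g A := by
    ext x
    rw [mem_cj, h, show g * (g⁻¹ * x * g) * g⁻¹ = x by group]
  rw [this, card_cj]

theorem Cj.card_C (h : Cj A B) : Nat.card (C A) = Nat.card (C B) := by
  obtain ⟨g, rfl⟩ := h.exists_eq
  refine card_eq_of_conj (g := g) fun x => ?_
  rw [mem_C_cj, show g⁻¹ * (g * x * g⁻¹) * g = x by group]

/-- The consequences of "`A` is a simple standard subgroup". -/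
structure TE (A : Subgroup G) : Prop where
  key : ∀ k g, k ∈ C A → k ≠ 1 → k * k = 1 → g * k * g⁻¹ ∈ C A → g ∈ N A
  disj : ∀ a ∈ A, a ∈ C A → a = 1
  ncomm : ∀ B, Cj A B → ¬ A ≤ C B

theorem TE.of_standard [Finite G] (hA : Cfsg.IsStandardSubgroup A) (hs : IsSimpleGroup A) : TE A := by
  have hdisj : ∀ a ∈ A, a ∈ C A → a = 1 := by
    intro a ha hac
    have hc : (⟨a, ha⟩ : A) ∈ center A := by
      rw [mem_center_iff]
      intro g
      exact Subtype.ext (mem_C.1 hac g g.2).symm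
    rcases (inferInstance : (center A).Normal).eq_bot_or_eq_top with h | h
    · rw [h, mem_bot] at hc
      exact congrArg Subtype.val hc
    · exfalso
      have hp : Group.IsPerfect ↥A := hA.1.1
      have h1 : commutator A = ⊥ := by
        rw [commutator_def, commutator_eq_bot_iff_le_centralizer]
        intro x _
        rw [mem_centralizer_iff]
        intro y _
        have hx : x ∈ center A := by rw [h]; trivial
        exact mem_center_iff.1 hx y
      rw [hp.commutator_eq_top] at h1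
      exact top_ne_bot h1
  refine ⟨fun k g hk h1 h2 hg => ?_, hdisj, fun B hB hAB => ?_⟩
  · obtain ⟨-, ⟨-, hte⟩, -, hnorm⟩ := hA
    show g ∈ normalizer (A : Set G)
    rw [hnorm]
    by_contra hgn
    have hodd := hte g hgn
    have hmem : g * k * g⁻¹ ∈ centralizer (A : Set G) ⊓
        (centralizer (A : Set G)).map (MulAut.conj g).toMonoidHom := ⟨hg, ⟨k, hk, rfl⟩⟩
    have hord : orderOf (g * k * g⁻¹) = 2 := by
      refine orderOf_eq_prime ?_ ?_
      · rw [pow_two, show g * k * g⁻¹ * (g * k * g⁻¹) = g * (k * k) * g⁻¹ by group, h2]; group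
      · intro h3
        apply h1
        rw [show k = g⁻¹ * (g * k * g⁻¹) * g by group, h3]; group
    have hdvd : orderOf (⟨g * k * g⁻¹, hmem⟩ : ↥(centralizer (A : Set G) ⊓
        (centralizer (A : Set G)).map (MulAut.conj g).toMonoidHom)) ∣ _ := orderOf_dvd_natCard _
    rw [orderOf_mk, hord] at hdvd
    exact (Nat.not_even_iff_odd.mpr hodd) (even_iff_two_dvd.mpr hdvd)
  · obtain ⟨g, rfl⟩ := hB.exists_eq
    by_cases h : Conj.cj g A = A
    · rw [h] at hAB
      obtain ⟨x, y, hxy⟩ := hs.exists_pair_ne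
      apply hxy
      have h1 : ∀ z : A, z = 1 := fun z => Subtype.ext (hdisj z z.2 (hAB z.2))
      rw [h1 x, h1 y]
    · apply hA.2.2.1 g h
      rw [commutator_eq_bot_iff_le_centralizer]
      exact hAB

namespace TE

theorem cj (h : TE A) (g : G) : TE (Conj.cj g A) := by
  refine ⟨fun k x hk h1 h2 hx => ?_, fun a ha hac => ?_, fun B hB hAB => ?_⟩
  · rw [mem_C_cj] at hk hx
    rw [mem_N_cj]
    refine h.key (g⁻¹ * k * g) (g⁻¹ * x * g) hk ?_ ?_ ?_
    · intro h3
      apply h1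
      rw [show k = g * (g⁻¹ * k * g) * g⁻¹ by group, h3]; group
    · rw [show g⁻¹ * k * g * (g⁻¹ * k * g) = g⁻¹ * (k * k) * g by group, h2]; group
    · rw [show g⁻¹ * x * g * (g⁻¹ * k * g) * (g⁻¹ * x * g)⁻¹ = g⁻¹ * (x * k * x⁻¹) * g by group]
      exact hx
  · rw [mem_cj] at ha
    rw [mem_C_cj] at hac
    have := h.disj _ ha hac
    rw [show a = g * (g⁻¹ * a * g) * g⁻¹ by group, this]; group
  · refine h.ncomm (Conj.cj g⁻¹ B) (((Cj.cj A g).trans hB).trans (Cj.cj _ _)) ?_
    intro a ha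
    rw [mem_C_cj, inv_inv]
    exact hAB (conj_mem_cj.2 ha)

theorem of_cj (h : TE A) (hc : Cj A B) : TE B := by
  obtain ⟨g, rfl⟩ := hc.exists_eq
  exact h.cj g

/-- an element commuting with an involution of `C A` normalizes `A` -/
theorem nrm (h : TE A) {k : G} (hk : k ∈ C A) (h1 : k ≠ 1) (h2 : k * k = 1) {g : G}
    (hg : g * k = k * g) : g ∈ N A :=
  h.key k g hk h1 h2 (by rw [hg, mul_inv_cancel_right]; exact hk)

/-- conjugates of `A` whose centralizers have an involution in common are equal -/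
theorem eq_of_mem (h : TE A) (hc : Cj A B) {k : G} (h1 : k ≠ 1) (h2 : k * k = 1)
    (hk : k ∈ C A) (hk' : k ∈ C B) : A = B := by
  obtain ⟨g, rfl⟩ := hc.exists_eq
  rw [mem_C_cj] at hk'
  have h3 : g ∈ N A := by
    refine h.key (g⁻¹ * k * g) g hk' ?_ ?_ ?_
    · intro h3
      apply h1
      rw [show k = g * (g⁻¹ * k * g) * g⁻¹ by group, h3]; group
    · rw [show g⁻¹ * k * g * (g⁻¹ * k * g) = g⁻¹ * (k * k) * g by group, h2]; group
    · rwa [show g * (g⁻¹ * k * g) * g⁻¹ = k by group]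
  exact (cj_eq_iff.2 h3).symm

end TE

end Cfsg.Agent.StdAlt.Conj
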