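import Cfsg.Agent.StdAlt.PairData
set_option linter.all false

/-!
# More permutations: subgroups of the alternating group without involutions, permutations of four points
-/

set_option autoImplicit false
set_option linter.unusedSectionVars false

namespace Cfsg.Agent.StdAlt

open Subgroup Equiv Equiv.Perm
open Cfsg.Agent.StdAlt.PermTypes (cyc fx R)

/-- a normal subgroup without involutions of the alternating group is trivial -/
theorem eq_bot_of_no_inv {β : Type*} [Fintype β] [DecidableEq β] (h4 : 4 ≤ Fintype.card β)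
    (M : Subgroup (alternatingGroup β)) [hMn : M.Normal] (hM : ∀ m ∈ M, m * m = 1 → m = 1) :
    M = ⊥ := by
  rcases Nat.lt_or_ge 4 (Fintype.card β) with h5 | h5
  · have hsimple : IsSimpleGroup (alternatingGroup β) :=
      alternatingGroup.isSimpleGroup (by rw [Nat.card_eq_fintype_card]; omega)
    rcases hMn.eq_bot_or_eq_top with h | h
    · exact h
    · exfalso
      obtain ⟨a, -⟩ := PermTypes.exists_notMem (∅ : Finset β) (by rw [Finset.card_empty]; omega)
      obtain ⟨b, hb⟩ := PermTypes.exists_notMem ({a} : Finset β)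
        (by rw [Finset.card_singleton]; omega)
      obtain ⟨c, hc⟩ := PermTypes.exists_notMem ({a, b} : Finset β)
        (lt_of_le_of_lt Finset.card_le_two (by omega))
      obtain ⟨d, hd⟩ := PermTypes.exists_notMem ({a, b, c} : Finset β)
        (lt_of_le_of_lt Finset.card_le_three (by omega))
      simp only [Finset.mem_insert, Finset.mem_singleton, not_or] at hb hc hd
      have hnd : [a, b, c, d].Nodup := PermTypes.nodup_four (Ne.symm hb) (Ne.symm hc.1)
        (Ne.symm hd.1) (Ne.symm hc.2) (Ne.symm hd.2.1) (Ne.symm hd.2.2)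
      have h1 := hM ⟨swap a b * swap c d, PermTypes.swap_mul_mem (Ne.symm hb) (Ne.symm hd.2.2)⟩
        (by rw [h]; trivial) (Subtype.ext (d1_sq hnd))
      exact d1_ne hnd (congrArg Subtype.val h1)
  · have hα4 : Nat.card β = 4 := by rw [Nat.card_eq_fintype_card]; omega
    rw [eq_bot_iff, ← alternatingGroup.center_eq_bot (α := β) (by rw [hα4])]
    intro m hm
    rw [mem_center_iff]
    intro g
    have h1 : g * m * g⁻¹ * m⁻¹ ∈ M := mul_mem (hMn.conj_mem m hm g) (inv_mem hm)
    have h2 : g * m * g⁻¹ * m⁻¹ ∈ alternatingGroup.kleinFour β := by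
      rw [alternatingGroup.kleinFour_eq_commutator hα4]
      exact commutator_mem_commutator (mem_top g) (mem_top m)
    have h3 : (⟨_, h2⟩ : alternatingGroup.kleinFour β) ^ 2 = 1 := by
      rw [← alternatingGroup.exponent_kleinFour_of_card_eq_four hα4]
      exact Monoid.pow_exponent_eq_one _
    have h4 := hM _ h1 (by rw [← sq]; exact congrArg Subtype.val h3)
    rw [mul_inv_eq_one, mul_inv_eq_iff_eq_mul] at h4
    exact h4

variable {α : Type*} [Fintype α] [DecidableEq α]

theorem isThreeCycle_of {σ : Perm α} (h3 : σ ^ 3 = 1) (h1 : σ ≠ 1) (hs : σ.support.card < 6) :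
    σ.IsThreeCycle := by
  have ho : orderOf σ = 3 := orderOf_eq_prime h3 h1
  obtain ⟨n, hn⟩ := cycleType_prime_order (σ := σ) (by rw [ho]; exact Nat.prime_three)
  have h2 := σ.sum_cycleType
  rw [hn, Multiset.sum_replicate, ho, smul_eq_mul] at h2
  have hn0 : n = 0 := by omega
  unfold IsThreeCycle
  rw [hn, ho, hn0]
  rfl

theorem even_of_cube {σ : Perm α} (h3 : σ ^ 3 = 1) : σ ∈ alternatingGroup α := by
  rw [mem_alternatingGroup]
  have h := congrArg Perm.sign h3
  rw [map_pow, map_one] at h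
  rcases Int.units_eq_one_or (Perm.sign σ) with h1 | h1
  · exact h1
  · rw [h1] at h
    exact absurd h (by decide)

variable {a b c d : α}

/-- elements of the four-group of the points `a, b, c, d` -/
def V4 (a b c d : α) (v : Perm α) : Prop :=
  v = 1 ∨ v = swap a b * swap c d ∨ v = swap a c * swap b d ∨ v = swap a d * swap b c

theorem V4.sq (h : [a, b, c, d].Nodup) {v : Perm α} (hv : V4 a b c d v) : v * v = 1 := by
  obtain ⟨⟨m1, m2, m3⟩, ⟨m4, m5⟩, m6⟩ := PermTypes.of_nodup_four h
  rcases hv with rfl | rfl | rfl | rfl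
  · exact mul_one 1
  · exact d1_sq h
  · exact d1_sq (PermTypes.nodup_four m2 m1 m3 (Ne.symm m4) m6 m5)
  · exact d1_sq (PermTypes.nodup_four m3 m1 m2 (Ne.symm m5) (Ne.symm m6) m4)

theorem V4.even (h : [a, b, c, d].Nodup) {v : Perm α} (hv : V4 a b c d v) :
    v ∈ alternatingGroup α := by
  obtain ⟨⟨m1, m2, m3⟩, ⟨m4, m5⟩, m6⟩ := PermTypes.of_nodup_four h
  rcases hv with rfl | rfl | rfl | rfl
  · exact one_mem _
  · exact PermTypes.swap_mul_mem m1 m6
  · exact PermTypes.swap_mul_mem m2 m5
  · exact PermTypes.swap_mul_mem m3 m4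

theorem V4.fix {v : Perm α} (hv : V4 a b c d v) {i : α} (hi : i ∉ four4 a b c d) : v i = i := by
  rw [mem_four4, not_or, not_or, not_or] at hi
  obtain ⟨h1, h2, h3, h4⟩ := hi
  rcases hv with rfl | rfl | rfl | rfl
  · rfl
  · exact d1_fix h1 h2 h3 h4
  · exact d1_fix h1 h3 h2 h4
  · exact d1_fix h1 h4 h2 h3

/-- the four-group is transitive on the four points -/
theorem exists_V4 (h : [a, b, c, d].Nodup) {i : α} (hi : i ∈ four4 a b c d) :
    ∃ v, V4 a b c d v ∧ v a = i ∧ v i = a := by
  obtain ⟨⟨m1, m2, m3⟩, ⟨m4, m5⟩, m6⟩ := PermTypes.of_nodup_four h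
  rcases mem_four4.1 hi with rfl | rfl | rfl | rfl
  · exact ⟨1, Or.inl rfl, rfl, rfl⟩
  · exact ⟨_, Or.inr (Or.inl rfl), (d1_apply h).1, (d1_apply h).2.1⟩
  · have n1 := d1_apply (PermTypes.nodup_four m2 m1 m3 (Ne.symm m4) m6 m5)
    exact ⟨_, Or.inr (Or.inr (Or.inl rfl)), n1.1, n1.2.1⟩
  · have n1 := d1_apply (PermTypes.nodup_four m3 m1 m2 (Ne.symm m5) (Ne.symm m6) m4)
    exact ⟨_, Or.inr (Or.inr (Or.inr rfl)), n1.1, n1.2.1⟩

/-- a permutation moving only the four points -/
def Mv (a b c d : α) (g : Perm α) : Prop := ∀ i, i ∉ four4 a b c d → g i = i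

theorem Mv.mem {g : Perm α} (hg : Mv a b c d g) {i : α} (hi : i ∈ four4 a b c d) :
    g i ∈ four4 a b c d := by
  by_contra hcon
  have h1 := hg _ hcon
  have h2 := g.injective h1
  rw [h2] at hcon
  exact hcon hi

theorem Mv.mul {g h : Perm α} (hg : Mv a b c d g) (hh : Mv a b c d h) : Mv a b c d (g * h) := by
  intro i hi
  rw [mul_apply, hh i hi, hg i hi]

theorem Mv.inv {g : Perm α} (hg : Mv a b c d g) : Mv a b c d g⁻¹ := by
  intro i hi
  rw [Perm.inv_eq_iff_eq, hg i hi]

/-- decomposition of the permutations of four points -/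
theorem s4_decomp (h : [a, b, c, d].Nodup) {g : Perm α} (hg : Mv a b c d g) :
    ∃ v, V4 a b c d v ∧ (v * g = 1 ∨ v * g = cyc b c d ∨ v * g = cyc b d c ∨ v * g = swap c d ∨
      v * g = swap b c ∨ v * g = swap b d) := by
  obtain ⟨⟨m1, m2, m3⟩, ⟨m4, m5⟩, m6⟩ := PermTypes.of_nodup_four h
  have ha : a ∈ four4 a b c d := mem_four4.2 (Or.inl rfl)
  obtain ⟨v, hv, hva, hvi⟩ := exists_V4 h (hg.mem ha)
  refine ⟨v, hv, ?_⟩
  set k := v * g with hk
  have hka : k a = a := by rw [hk, mul_apply, hvi]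
  have hkM : Mv a b c d k := Mv.mul (fun i hi => hv.fix hi) hg
  have hmem : ∀ i, i = b ∨ i = c ∨ i = d → k i = b ∨ k i = c ∨ k i = d := by
    intro i hi
    have h1 : i ∈ four4 a b c d := mem_four4.2 (Or.inr hi)
    have h2 := hkM.mem h1
    rcases mem_four4.1 h2 with e | e
    · exfalso
      have : i = a := k.injective (e.trans hka.symm)
      rcases hi with rfl | rfl | rfl
      · exact m1 this.symm
      · exact m2 this.symm
      · exact m3 this.symm
    · exact e
  have hout : ∀ i, i ≠ b → i ≠ c → i ≠ d → k i = i := by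
    intro i h1 h2 h3
    by_cases h0 : i = a
    · rw [h0, hka]
    · exact hkM i (by
        rw [mem_four4, not_or, not_or, not_or]
        exact ⟨h0, h1, h2, h3⟩)
  have hb := hmem b (Or.inl rfl)
  have hc := hmem c (Or.inr (Or.inl rfl))
  have hd := hmem d (Or.inr (Or.inr rfl))
  have inj : ∀ {i j l : α}, i ≠ j → k i = l → k j = l → False := fun h1 h2 h3 =>
    h1 (k.injective (h2.trans h3.symm))
  rcases hb with eb | eb | eb <;> rcases hc with ec | ec | ec <;> rcases hd with ed | ed | ed
  all_goals first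
    | exact absurd eb (fun e => inj m4 e ec)
    | exact absurd eb (fun e => inj m5 e ed)
    | exact absurd ec (fun e => inj m6 e ed)
    | skip
  · -- b c d fixed
    left
    ext i
    by_cases i1 : i = b
    · rw [i1, eb]; rfl
    by_cases i2 : i = c
    · rw [i2, ec]; rfl
    by_cases i3 : i = d
    · rw [i3, ed]; rfl
    exact hout i i1 i2 i3
  · -- swap c d
    right; right; right; left
    ext i
    by_cases i1 : i = b
    · rw [i1, eb, swap_apply_of_ne_of_ne m4 m5]
    by_cases i2 : i = c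
    · rw [i2, ec, swap_apply_left]
    by_cases i3 : i = d
    · rw [i3, ed, swap_apply_right]
    rw [hout i i1 i2 i3, swap_apply_of_ne_of_ne i2 i3]
  · -- swap b c
    right; right; right; right; left
    ext i
    by_cases i1 : i = b
    · rw [i1, eb, swap_apply_left]
    by_cases i2 : i = c
    · rw [i2, ec, swap_apply_right]
    by_cases i3 : i = d
    · rw [i3, ed, swap_apply_of_ne_of_ne (Ne.symm m5) (Ne.symm m6)]
    rw [hout i i1 i2 i3, swap_apply_of_ne_of_ne i1 i2]
  · -- b → c → d → b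
    right; left
    ext i
    by_cases i1 : i = b
    · rw [i1, eb, PermTypes.cyc_apply_fst m5 m4]
    by_cases i2 : i = c
    · rw [i2, ec, PermTypes.cyc_apply_snd m5 m6]
    by_cases i3 : i = d
    · rw [i3, ed, PermTypes.cyc_apply_thd]
    rw [hout i i1 i2 i3, PermTypes.cyc_apply_of_ne i1 i2 i3]
  · -- b → d → c → b
    right; right; left
    ext i
    by_cases i1 : i = b
    · rw [i1, eb, PermTypes.cyc_apply_fst m4 m5]
    by_cases i2 : i = c
    · rw [i2, ec, PermTypes.cyc_apply_thd]
    by_cases i3 : i = d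
    · rw [i3, ed, PermTypes.cyc_apply_snd m4 (Ne.symm m6)]
    rw [hout i i1 i2 i3, PermTypes.cyc_apply_of_ne i1 i3 i2]
  · -- swap b d
    right; right; right; right; right
    ext i
    by_cases i1 : i = b
    · rw [i1, eb, swap_apply_left]
    by_cases i2 : i = c
    · rw [i2, ec, swap_apply_of_ne_of_ne (Ne.symm m4) m6]
    by_cases i3 : i = d
    · rw [i3, ed, swap_apply_right]
    rw [hout i i1 i2 i3, swap_apply_of_ne_of_ne i1 i3]

theorem V4.comm (h : [a, b, c, d].Nodup) {v : Perm α} (hv : V4 a b c d v) :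
    v * (swap a b * swap c d) = (swap a b * swap c d) * v ∧
      v * (swap a c * swap b d) = (swap a c * swap b d) * v := by
  have h12 := d1_comm_d2 h
  have h3 := d1_mul_d2 h
  rcases hv with rfl | rfl | rfl | rfl
  · exact ⟨by rw [one_mul, mul_one], by rw [one_mul, mul_one]⟩
  · exact ⟨rfl, h12⟩
  · exact ⟨h12.symm, rfl⟩
  · rw [← h3]
    constructor
    · rw [mul_assoc, ← h12]
    · conv_lhs => rw [h12]
      rw [mul_assoc]

/-- a permutation moving only the four points and commuting with the four-group belongs to it -/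
theorem V4_of_comm (h : [a, b, c, d].Nodup) {g : Perm α} (hg : Mv a b c d g)
    (h1 : g * (swap a b * swap c d) = (swap a b * swap c d) * g)
    (h2 : g * (swap a c * swap b d) = (swap a c * swap b d) * g) : V4 a b c d g := by
  obtain ⟨⟨m1, m2, m3⟩, ⟨m4, m5⟩, m6⟩ := PermTypes.of_nodup_four h
  have n1 : [a, c, b, d].Nodup := PermTypes.nodup_four m2 m1 m3 (Ne.symm m4) m6 m5
  have e1 := d1_apply h
  have e2 := d1_apply n1
  have ha : a ∈ four4 a b c d := mem_four4.2 (Or.inl rfl)
  obtain ⟨v, hv, hva, hvi⟩ := exists_V4 h (hg.mem ha)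
  obtain ⟨hv1, hv2⟩ := hv.comm h
  have g1 : ∀ k, (v * g) ((swap a b * swap c d) k) = (swap a b * swap c d) ((v * g) k) :=
    fun k => by rw [← mul_apply, mul_assoc, h1, ← mul_assoc, hv1, mul_assoc, mul_apply]
  have g2 : ∀ k, (v * g) ((swap a c * swap b d) k) = (swap a c * swap b d) ((v * g) k) :=
    fun k => by rw [← mul_apply, mul_assoc, h2, ← mul_assoc, hv2, mul_assoc, mul_apply]
  have ka : (v * g) a = a := by rw [mul_apply, hvi]
  have kb : (v * g) b = b := by
    have := g1 a
    rwa [e1.1, ka, e1.1] at this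
  have kc : (v * g) c = c := by
    have := g2 a
    rwa [e2.1, ka, e2.1] at this
  have kd : (v * g) d = d := by
    have := g1 c
    rwa [e1.2.2.1, kc, e1.2.2.1] at this
  have hvg : v * g = 1 := by
    ext i
    by_cases hi : i ∈ four4 a b c d
    · rcases mem_four4.1 hi with rfl | rfl | rfl | rfl
      · exact ka
      · exact kb
      · exact kc
      · exact kd
    · rw [mul_apply, hg i hi, hv.fix hi, one_apply]
  have : g = v := by
    have h3 := hv.sq h
    calc g = (v * v) * g := by rw [h3, one_mul]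
      _ = v * (v * g) := mul_assoc _ _ _
      _ = v := by rw [hvg, mul_one]
  rw [this]
  exact hv

/-! ### permutations commuting with `AF` -/

theorem card_four4_le : (four4 a b c d).card ≤ 4 := Finset.card_le_four

theorem cyc_mem_AF {i j k : α} (hi : i ∉ four4 a b c d) (hj : j ∉ four4 a b c d)
    (hk : k ∉ four4 a b c d) (hij : i ≠ j) (hjk : j ≠ k) : cyc i j k ∈ AF a b c d := by
  rw [mem_four4, not_or, not_or, not_or] at hi hj hk
  refine ⟨PermTypes.cyc_mem_alt hij hjk, ?_, ?_, ?_, ?_⟩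
  · exact PermTypes.cyc_apply_of_ne (Ne.symm hi.1) (Ne.symm hj.1) (Ne.symm hk.1)
  · exact PermTypes.cyc_apply_of_ne (Ne.symm hi.2.1) (Ne.symm hj.2.1) (Ne.symm hk.2.1)
  · exact PermTypes.cyc_apply_of_ne (Ne.symm hi.2.2.1) (Ne.symm hj.2.2.1) (Ne.symm hk.2.2.1)
  · exact PermTypes.cyc_apply_of_ne (Ne.symm hi.2.2.2) (Ne.symm hj.2.2.2) (Ne.symm hk.2.2.2)

/-- two further points -/
theorem exists_two_more {i : α} (h7 : 7 ≤ Fintype.card α) : ∃ k l, k ∉ four4 a b c d ∧
    l ∉ four4 a b c d ∧ k ≠ i ∧ l ≠ i ∧ k ≠ l := by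
  have h0 := card_four4_le (a := a) (b := b) (c := c) (d := d)
  obtain ⟨k, hk⟩ := PermTypes.exists_notMem (insert i (four4 a b c d))
    (lt_of_le_of_lt (Finset.card_insert_le _ _) (by omega))
  obtain ⟨l, hl⟩ := PermTypes.exists_notMem (insert k (insert i (four4 a b c d)))
    (lt_of_le_of_lt (Finset.card_insert_le _ _)
      (lt_of_le_of_lt (Nat.add_le_add_right (Finset.card_insert_le _ _) _) (by omega)))
  simp only [Finset.mem_insert, not_or] at hk hl
  exact ⟨k, l, hk.2, hl.2.2, hk.1, hl.2.1, Ne.symm hl.1⟩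

theorem comm_AF_mem (h7 : 7 ≤ Fintype.card α) {g : Perm α} (hg : ∀ σ ∈ AF a b c d, g * σ = σ * g)
    {i : α} (hi : i ∉ four4 a b c d) : g i ∉ four4 a b c d := by
  intro hgi
  obtain ⟨k, l, hk, hl, hki, hli, hkl⟩ := exists_two_more (a := a) (b := b) (c := c) (d := d)
    (i := i) h7
  have hσ := cyc_mem_AF hi hk hl (Ne.symm hki) hkl
  have h1 : g (cyc i k l i) = cyc i k l (g i) := by rw [← mul_apply, hg _ hσ, mul_apply]
  have h2 : cyc i k l (g i) = g i := by
    apply PermTypes.cyc_apply_of_ne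
    · intro e; exact hi (e ▸ hgi)
    · intro e; exact hk (e ▸ hgi)
    · intro e; exact hl (e ▸ hgi)
  rw [h2, PermTypes.cyc_apply_fst (Ne.symm hli) (Ne.symm hki)] at h1
  exact hki (g.injective h1)

theorem comm_AF_fix (h8 : 8 ≤ Fintype.card α) {g : Perm α} (hg : ∀ σ ∈ AF a b c d, g * σ = σ * g) :
    Mv a b c d g := by
  intro i hi
  by_contra hne
  have h0 := card_four4_le (a := a) (b := b) (c := c) (d := d)
  obtain ⟨k, hk⟩ := PermTypes.exists_notMem (insert (g i) (insert i (four4 a b c d)))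
    (lt_of_le_of_lt (Finset.card_insert_le _ _)
      (lt_of_le_of_lt (Nat.add_le_add_right (Finset.card_insert_le _ _) _) (by omega)))
  obtain ⟨l, hl⟩ := PermTypes.exists_notMem (insert k (insert (g i) (insert i (four4 a b c d))))
    (lt_of_le_of_lt (Finset.card_insert_le _ _)
      (lt_of_le_of_lt (Nat.add_le_add_right (Finset.card_insert_le _ _) _)
        (lt_of_le_of_lt (Nat.add_le_add_right (Nat.add_le_add_right
          (Finset.card_insert_le _ _) _) _) (by omega))))
  simp only [Finset.mem_insert, not_or] at hk hl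
  have hσ := cyc_mem_AF hi hk.2.2 hl.2.2.2 (Ne.symm hk.2.1) (Ne.symm hl.1)
  have h1 : g (cyc i k l i) = cyc i k l (g i) := by rw [← mul_apply, hg _ hσ, mul_apply]
  rw [PermTypes.cyc_apply_of_ne hne (Ne.symm hk.1) (Ne.symm hl.2.1),
    PermTypes.cyc_apply_fst (Ne.symm hl.2.2.1) (Ne.symm hk.2.1)] at h1
  exact hk.2.1 (g.injective h1)

/-- seven points: a third point outside -/
theorem seven_third (h7 : Fintype.card α = 7) (hnd : [a, b, c, d].Nodup) {i j : α}
    (hi : i ∉ four4 a b c d) (hj : j ∉ four4 a b c d) (hij : i ≠ j) :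
    ∃ k, k ∉ four4 a b c d ∧ k ≠ i ∧ k ≠ j ∧ ∀ l, l ∉ four4 a b c d → l = i ∨ l = j ∨ l = k := by
  obtain ⟨⟨m1, m2, m3⟩, ⟨m4, m5⟩, m6⟩ := PermTypes.of_nodup_four hnd
  have h4 : (four4 a b c d).card = 4 := by
    unfold four4
    rw [Finset.card_insert_of_notMem, Finset.card_insert_of_notMem, Finset.card_insert_of_notMem,
      Finset.card_singleton]
    · rw [Finset.mem_singleton]; exact m6
    · simp only [Finset.mem_insert, Finset.mem_singleton, not_or]; exact ⟨m4, m5⟩
    · simp only [Finset.mem_insert, Finset.mem_singleton, not_or]; exact ⟨m1, m2, m3⟩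
  obtain ⟨k, hk⟩ := PermTypes.exists_notMem (insert j (insert i (four4 a b c d)))
    (lt_of_le_of_lt (Finset.card_insert_le _ _)
      (lt_of_le_of_lt (Nat.add_le_add_right (Finset.card_insert_le _ _) _) (by omega)))
  simp only [Finset.mem_insert, not_or] at hk
  refine ⟨k, hk.2.2, hk.2.1, hk.1, fun l hl => ?_⟩
  by_contra hcon
  push Not at hcon
  have h5 : (insert l (insert k (insert j (insert i (four4 a b c d))))).card = 8 := by
    rw [Finset.card_insert_of_notMem, Finset.card_insert_of_notMem, Finset.card_insert_of_notMem,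
      Finset.card_insert_of_notMem hi, h4]
    · simp only [Finset.mem_insert, not_or]; exact ⟨Ne.symm hij, hj⟩
    · simp only [Finset.mem_insert, not_or]; exact hk
    · simp only [Finset.mem_insert, not_or]; exact ⟨hcon.2.2, hcon.2.1, hcon.1, hl⟩
  have h6 := Finset.card_le_univ (insert l (insert k (insert j (insert i (four4 a b c d)))))
  omega

section seven

variable (h7 : Fintype.card α = 7) (hnd : [a, b, c, d].Nodup) {x : Perm α} (hxx : x * x = 1)
  (hxS : ∀ i, i ∉ four4 a b c d → x i ∉ four4 a b c d) {i₀ : α} (hi₀ : i₀ ∉ four4 a b c d)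
  (hx : x i₀ ≠ i₀)
include h7 hnd hxx hxS hi₀ hx

/-- the third point is fixed by `x` and by each permutation commuting with `x` and preserving the complement -/
theorem seven_fix : ∃ k, k ∉ four4 a b c d ∧ k ≠ i₀ ∧ k ≠ x i₀ ∧ 
    (∀ l, l ∉ four4 a b c d → l = i₀ ∨ l = x i₀ ∨ l = k) ∧
    ∀ g : Perm α, g * x = x * g → g k ∉ four4 a b c d → g k = k := by
  obtain ⟨k, hk, hki, hkj, hall⟩ := seven_third h7 hnd hi₀ (hxS _ hi₀) (Ne.symm hx)
  have hx2 : ∀ k, x (x k) = k := PermTypes.app_app hxx
  have hxk : x k = k := by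
    rcases hall _ (hxS k hk) with e | e | e
    · exfalso
      apply hkj
      rw [← e, hx2]
    · exact absurd (x.injective e) hki
    · exact e
  refine ⟨k, hk, hki, hkj, hall, fun g hgx hgk => ?_⟩
  have h1 : x (g k) = g k := by rw [← mul_apply, ← hgx, mul_apply, hxk]
  rcases hall _ hgk with e | e | e
  · rw [e] at h1; exact absurd h1 hx
  · rw [e, hx2] at h1; exact absurd h1.symm hx
  · exact e

theorem comm_AF_fix7 {g : Perm α} (hg : ∀ σ ∈ AF a b c d, g * σ = σ * g) (hgx : g * x = x * g) :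
    Mv a b c d g := by
  obtain ⟨k, hk, hki, hkj, hall, hfix⟩ := seven_fix h7 hnd hxx hxS hi₀ hx
  have hgk := hfix g hgx (comm_AF_mem (by omega) hg hk)
  have hj := hxS _ hi₀
  have hσ := cyc_mem_AF hi₀ hj hk (Ne.symm hx) (Ne.symm hkj)
  have hcomm : ∀ l, g (cyc i₀ (x i₀) k l) = cyc i₀ (x i₀) k (g l) := fun l => by
    rw [← mul_apply, hg _ hσ, mul_apply]
  have h1 : g i₀ = i₀ := by
    have := hcomm k
    rwa [PermTypes.cyc_apply_thd, hgk, PermTypes.cyc_apply_thd] at this
  have h2 : g (x i₀) = x i₀ := by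
    have := hcomm i₀
    rwa [h1, PermTypes.cyc_apply_fst (Ne.symm hki) (Ne.symm hx)] at this
  intro l hl
  rcases hall l hl with rfl | rfl | rfl
  · exact h1
  · exact h2
  · exact hgk

theorem AF_eq_one7 {σ : Perm α} (hσ : σ ∈ AF a b c d) (hσx : σ * x = x * σ) : σ = 1 := by
  obtain ⟨k, hk, hki, hkj, hall, hfix⟩ := seven_fix h7 hnd hxx hxS hi₀ hx
  have hj := hxS _ hi₀
  have hmem : ∀ l, l ∉ four4 a b c d → σ l ∉ four4 a b c d := by
    intro l hl hl'
    apply hl
    have h1 : σ (σ l) = σ l := by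
      rcases mem_four4.1 hl' with e | e | e | e
      · rw [e]; exact hσ.2.1
      · rw [e]; exact hσ.2.2.1
      · rw [e]; exact hσ.2.2.2.1
      · rw [e]; exact hσ.2.2.2.2
    rwa [σ.injective h1] at hl'
  have hσk := hfix σ hσx (hmem k hk)
  have hfixS : ∀ l, l ∈ four4 a b c d → σ l = l := by
    intro l hl
    rcases mem_four4.1 hl with rfl | rfl | rfl | rfl
    · exact hσ.2.1
    · exact hσ.2.2.1
    · exact hσ.2.2.2.1
    · exact hσ.2.2.2.2
  rcases hall _ (hmem _ hi₀) with e | e | e
  · -- σ fixes i₀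
    have h2 : σ (x i₀) = x i₀ := by
      rcases hall _ (hmem _ hj) with e' | e' | e'
      · exact absurd (σ.injective (e'.trans e.symm)) hx
      · exact e'
      · exact absurd (σ.injective (e'.trans hσk.symm)) (Ne.symm hkj)
    ext l
    by_cases hl : l ∈ four4 a b c d
    · rw [hfixS l hl, one_apply]
    · rcases hall l hl with rfl | rfl | rfl
      · rw [e, one_apply]
      · rw [h2, one_apply]
      · rw [hσk, one_apply]
  · exfalso
    have h2 : σ (x i₀) = i₀ := by
      rcases hall _ (hmem _ hj) with e' | e' | e'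
      · exact e'
      · exact absurd (σ.injective (e'.trans e.symm)) hx
      · exact absurd (σ.injective (e'.trans hσk.symm)) (Ne.symm hkj)
    have h3 : σ = swap i₀ (x i₀) := by
      ext l
      by_cases hl : l ∈ four4 a b c d
      · rw [hfixS l hl, swap_apply_of_ne_of_ne]
        · intro e'; exact hi₀ (e' ▸ hl)
        · intro e'; exact hj (e' ▸ hl)
      · rcases hall l hl with e' | e' | e'
        · rw [e', e, swap_apply_left]
        · rw [e', h2, swap_apply_right]
        · rw [e', hσk, swap_apply_of_ne_of_ne hki hkj]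
    have h4 := mem_alternatingGroup.1 hσ.1
    rw [h3, sign_swap (Ne.symm hx)] at h4
    exact absurd h4 (by decide)
  · exact absurd (σ.injective (e.trans hσk.symm)) (Ne.symm hki)

end seven

end Cfsg.Agent.StdAlt
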