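import Cfsg.Agent.StdAlt.Conj
set_option linter.all false

/-!
# From an even pair to a good pair
-/

set_option autoImplicit false

namespace Cfsg.Agent.StdAlt.Pairs

open Subgroup Cfsg.Agent.StdAlt.Conj

variable {G : Type*} [Group G]

/-! ### tools for 2-subgroups -/

theorem mem_cent {x y : G} : x ∈ centralizer ({y} : Set G) ↔ x * y = y * x :=
  mem_centralizer_singleton_iff

/-- a 2-subgroup of `L` lies in a 2-subgroup of `L` whose order is divisible by the 2-part of `|L|` -/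
theorem exists_two_subgroup [Finite G] (L Q : Subgroup G) (hQ : IsPGroup 2 Q) (hQL : Q ≤ L) :
    ∃ P : Subgroup G, IsPGroup 2 P ∧ Q ≤ P ∧ P ≤ L ∧ ∀ n, 2 ^ n ∣ Nat.card L → 2 ^ n ∣ Nat.card P := by
  obtain ⟨P, hP⟩ := (hQ.comap_subtype (K := L)).exists_le_sylow
  refine ⟨(P : Subgroup L).map L.subtype, P.2.map _, ?_, ?_, ?_⟩
  · intro x hx
    exact ⟨⟨x, hQL hx⟩, hP hx, rfl⟩
  · rintro _ ⟨x, -, rfl⟩
    exact x.2
  · intro n hn
    have h1 := P.pow_dvd_card_of_pow_dvd_card hn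
    rwa [Nat.card_congr ((P : Subgroup L).equivMapOfInjective L.subtype
      L.subtype_injective).toEquiv] at h1

/-- conjugacy of Sylow subgroups -/
theorem exists_conj_le [Finite G] (L Q₁ Q₂ : Subgroup G) (h₁ : IsPGroup 2 Q₁) (h₂ : IsPGroup 2 Q₂)
    (hL₁ : Q₁ ≤ L) (hL₂ : Q₂ ≤ L) (hmax : ∀ P : Subgroup G, IsPGroup 2 P → Q₁ ≤ P → P ≤ L → P = Q₁) :
    ∃ g ∈ L, ∀ x ∈ Q₂, g * x * g⁻¹ ∈ Q₁ := by
  obtain ⟨P₁, hP₁⟩ := (h₁.comap_subtype (K := L)).exists_le_sylow
  obtain ⟨P₂, hP₂⟩ := (h₂.comap_subtype (K := L)).exists_le_sylow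
  obtain ⟨g, hg⟩ := MulAction.exists_smul_eq L P₂ P₁
  have hmap : (P₁ : Subgroup L).map L.subtype = Q₁ := by
    apply hmax _ (P₁.2.map _)
    · intro x hx
      exact ⟨⟨x, hL₁ hx⟩, hP₁ hx, rfl⟩
    · rintro _ ⟨x, -, rfl⟩
      exact x.2
  refine ⟨g, g.2, fun x hx => ?_⟩
  have h3 : (⟨x, hL₂ hx⟩ : L) ∈ P₂ := hP₂ hx
  have h4 : g * ⟨x, hL₂ hx⟩ * g⁻¹ ∈ P₁ := by
    rw [← hg]
    exact Subgroup.smul_mem_pointwise_smul _ (MulAut.conj g) _ h3
  rw [← hmap]
  exact ⟨_, h4, rfl⟩

/-- growth of normalizers -/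
theorem exists_normalizing [Finite G] (P D : Subgroup G) (hP : IsPGroup 2 P) (hD : D ≤ P)
    (hne : D ≠ P) : ∃ c ∈ P, c ∉ D ∧ ∀ x ∈ D, c * x * c⁻¹ ∈ D := by
  have hnil : Group.IsNilpotent P := hP.isNilpotent
  have hlt : D.subgroupOf P < ⊤ := by
    rw [lt_top_iff_ne_top]
    intro h
    rw [subgroupOf_eq_top] at h
    exact hne (le_antisymm hD h)
  have hnc := Group.normalizerCondition_of_isNilpotent (D.subgroupOf P) hlt
  obtain ⟨c, hc, hcD⟩ := SetLike.exists_of_lt hnc
  refine ⟨c, c.2, fun h => hcD (mem_subgroupOf.2 h), fun x hx => ?_⟩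
  have h1 := (mem_normalizer_iff.1 hc ⟨x, hD hx⟩).1 (mem_subgroupOf.2 hx)
  exact mem_subgroupOf.1 h1

theorem isPGroup_of_sq {Q : Subgroup G} (h : ∀ x ∈ Q, x * x = 1) : IsPGroup 2 Q := by
  intro x
  refine ⟨1, ?_⟩
  rw [pow_one, sq]
  exact Subtype.ext (h x x.2)

/-- in a group whose order is not divisible by four a nontrivial 2-subgroup has order two -/
theorem eq_or_eq_of_not_four [Finite G] {Q L : Subgroup G} (hQ : IsPGroup 2 Q) (hQL : Q ≤ L)
    (h4 : ¬ 4 ∣ Nat.card L) {t : G} (ht : t ∈ Q) (ht1 : t ≠ 1) {x : G} (hx : x ∈ Q) :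
    x = 1 ∨ x = t := by
  obtain ⟨n, hn⟩ := IsPGroup.iff_card.1 hQ
  have h1 : Nat.card Q ∣ Nat.card L := card_dvd_of_le hQL
  have hn1 : n ≤ 1 := by
    by_contra hcon
    push Not at hcon
    apply h4
    have : (4 : ℕ) ∣ 2 ^ n := by
      have : (2 : ℕ) ^ 2 ∣ 2 ^ n := pow_dvd_pow 2 hcon
      simpa using this
    exact this.trans (hn ▸ h1)
  have h2 : Nat.card Q ≤ 2 := by
    rw [hn]
    calc 2 ^ n ≤ 2 ^ 1 := Nat.pow_le_pow_right (by norm_num) hn1
      _ = 2 := by norm_num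
  by_contra hcon
  push Not at hcon
  have hinj : Function.Injective (fun i : Fin 3 => if i = 0 then (1 : Q) else if i = 1 then
      ⟨t, ht⟩ else ⟨x, hx⟩) := by
    have e1 : (1 : Q) ≠ ⟨t, ht⟩ := fun e => ht1 (congrArg Subtype.val e).symm
    have e2 : (1 : Q) ≠ ⟨x, hx⟩ := fun e => hcon.1 (congrArg Subtype.val e).symm
    have e3 : (⟨t, ht⟩ : Q) ≠ ⟨x, hx⟩ := fun e => hcon.2 (congrArg Subtype.val e).symm
    intro i j hij
    fin_cases i <;> fin_cases j <;> simp_all
  have h3 := Nat.card_le_card_of_injective _ hinj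
  rw [Nat.card_eq_fintype_card, Fintype.card_fin] at h3
  omega

/-- the four-group generated by two commuting involutions -/
def four (t y : G) (htt : t * t = 1) (hyy : y * y = 1) (hty : t * y = y * t) : Subgroup G where
  carrier := {x | x = 1 ∨ x = t ∨ x = y ∨ x = t * y}
  one_mem' := Or.inl rfl
  mul_mem' := by
    have e1 : t * (t * y) = y := by rw [← mul_assoc, htt, one_mul]
    have e2 : y * (t * y) = t := by rw [hty, ← mul_assoc, hyy, one_mul]
    have e3 : t * y * t = y := by rw [hty, mul_assoc, htt, mul_one]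
    have e4 : t * y * y = t := by rw [mul_assoc, hyy, mul_one]
    have e5 : t * y * (t * y) = 1 := by rw [← mul_assoc, e3, hyy]
    rintro a b (rfl | rfl | rfl | rfl) (rfl | rfl | rfl | rfl) <;>
      simp [htt, hyy, e1, e2, e3, e4, e5, ← hty]
  inv_mem' := by
    have i1 : t⁻¹ = t := inv_eq_of_mul_eq_one_left htt
    have i2 : y⁻¹ = y := inv_eq_of_mul_eq_one_left hyy
    rintro a (rfl | rfl | rfl | rfl)
    · left; simp
    · right; left; exact i1
    · right; right; left; exact i2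
    · right; right; right
      rw [mul_inv_rev, i1, i2, hty]

theorem mem_four {t y : G} {htt : t * t = 1} {hyy : y * y = 1} {hty : t * y = y * t} {x : G} :
    x ∈ four t y htt hyy hty ↔ x = 1 ∨ x = t ∨ x = y ∨ x = t * y := Iff.rfl

theorem four_sq {t y : G} {htt : t * t = 1} {hyy : y * y = 1} {hty : t * y = y * t} {x : G}
    (hx : x ∈ four t y htt hyy hty) : x * x = 1 := by
  rcases hx with rfl | rfl | rfl | rfl
  · exact mul_one 1
  · exact htt
  · exact hyy
  · rw [mul_assoc, ← mul_assoc y, ← hty, mul_assoc t, hyy, mul_one, htt]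

theorem card_four_le [Finite G] {t y : G} {htt : t * t = 1} {hyy : y * y = 1}
    {hty : t * y = y * t} : Nat.card (four t y htt hyy hty) ≤ 4 := by
  have hsurj : Function.Surjective (fun i : Fin 4 => if i = 0 then (1 : four t y htt hyy hty) else
      if i = 1 then ⟨t, Or.inr (Or.inl rfl)⟩ else if i = 2 then ⟨y, Or.inr (Or.inr (Or.inl rfl))⟩
      else ⟨t * y, Or.inr (Or.inr (Or.inr rfl))⟩) := by
    rintro ⟨x, hx⟩
    rcases hx with rfl | rfl | rfl | rfl
    · exact ⟨0, by simp; rfl⟩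
    · exact ⟨1, by simp⟩
    · exact ⟨2, by simp⟩
    · exact ⟨3, by simp⟩
  have := Nat.card_le_card_of_surjective _ hsurj
  rwa [Nat.card_fin] at this

theorem card_four [Finite G] {t y : G} {htt : t * t = 1} {hyy : y * y = 1}
    {hty : t * y = y * t} (ht : t ≠ 1) (hy : y ≠ 1) (hne : t ≠ y) :
    Nat.card (four t y htt hyy hty) = 4 := by
  have h1 : t * y ≠ 1 := by
    intro e
    apply hne
    have : y⁻¹ = y := inv_eq_of_mul_eq_one_left hyy
    rw [← this]
    exact eq_inv_of_mul_eq_one_left e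
  have h2 : ((four t y htt hyy hty : Subgroup G) : Set G) = {1, t, y, t * y} := rfl
  have h3 : Nat.card (four t y htt hyy hty) = Set.ncard ({1, t, y, t * y} : Set G) := by
    rw [← h2]; rfl
  rw [h3, Set.ncard_insert_of_notMem, Set.ncard_insert_of_notMem, Set.ncard_pair]
  · intro e
    apply ht
    exact mul_eq_right.1 e.symm
  · simp only [Set.mem_insert_iff, Set.mem_singleton_iff, not_or]
    exact ⟨hne, fun e => hy (mul_eq_left.1 e.symm)⟩
  · simp only [Set.mem_insert_iff, Set.mem_singleton_iff, not_or]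
    exact ⟨Ne.symm ht, Ne.symm hy, Ne.symm h1⟩

/-- the centralizer of an involution in a group of order divisible by four has order divisible by four -/
theorem four_dvd_centralizer [Finite G] (K : Subgroup G) (h4 : 4 ∣ Nat.card K) {k : G} (hk : k ∈ K)
    (hkk : k * k = 1) : 4 ∣ Nat.card ↥(K ⊓ centralizer {k}) := by
  by_cases hk1 : k = 1
  · have : K ⊓ centralizer {k} = K := by
      rw [inf_eq_left]
      intro x _
      rw [mem_cent, hk1, mul_one, one_mul]
    rwa [this]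
  have hkp : IsPGroup 2 (zpowers k) := by
    apply IsPGroup.of_card (n := 1)
    rw [Nat.card_zpowers, pow_one]
    exact orderOf_eq_prime (by rw [sq]; exact hkk) hk1
  obtain ⟨P, hP, hkP, hPK, hdvd⟩ := exists_two_subgroup K (zpowers k) hkp
    (by rw [zpowers_le]; exact hk)
  have hkP : k ∈ P := hkP (mem_zpowers k)
  have h4P : 4 ∣ Nat.card P := hdvd 2 (by norm_num; exact h4)
  by_contra hcon
  by_cases hPC : P ≤ centralizer {k}
  · exact hcon (h4P.trans (card_dvd_of_le (le_inf hPK hPC)))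
  · obtain ⟨c, hc, hcD, hnorm⟩ := exists_normalizing P (P ⊓ centralizer {k}) hP inf_le_left
      (by rw [ne_eq, inf_eq_left]; exact hPC)
    have hkD : k ∈ P ⊓ centralizer {k} := ⟨hkP, mem_cent.2 rfl⟩
    have h1 := hnorm k hkD
    have h2 : c * k * c⁻¹ = 1 ∨ c * k * c⁻¹ = k :=
      eq_or_eq_of_not_four (hP.to_le inf_le_left) (inf_le_inf_right _ hPK) hcon hkD hk1 h1
    rcases h2 with h2 | h2
    · apply hk1
      rw [show k = c⁻¹ * (c * k * c⁻¹) * c by group, h2]; group
    · exact hcD ⟨hc, mem_cent.2 (mul_inv_eq_iff_eq_mul.1 h2)⟩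

theorem mem_sup_zpowers {K : Subgroup G} {y : G} (hy : y ∈ N K) (hyy : y * y = 1) {x : G} :
    x ∈ K ⊔ zpowers y ↔ x ∈ K ∨ x * y ∈ K := by
  have hyi : y⁻¹ = y := inv_eq_of_mul_eq_one_left hyy
  have hconj : ∀ k ∈ K, y * k * y ∈ K := by
    intro k hk
    have := conj_mem hy hk
    rwa [hyi] at this
  let S : Subgroup G :=
    { carrier := {x | x ∈ K ∨ x * y ∈ K}
      one_mem' := Or.inl K.one_mem
      mul_mem' := by
        rintro a b (ha | ha) (hb | hb)
        · exact Or.inl (mul_mem ha hb)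
        · right
          show a * b * y ∈ K
          rw [mul_assoc]; exact mul_mem ha hb
        · right
          show a * b * y ∈ K
          have : a * b * y = (a * y) * (y * b * y) := by
            calc a * b * y = a * 1 * b * y := by group
              _ = a * (y * y) * b * y := by rw [hyy]
              _ = _ := by group
          rw [this]
          exact mul_mem ha (hconj b hb)
        · left
          show a * b ∈ K
          have : a * b = (a * y) * (y * (b * y) * y) := by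
            calc a * b = a * 1 * b * 1 := by group
              _ = a * (y * y) * b * (y * y) := by rw [hyy]
              _ = _ := by group
          rw [this]
          exact mul_mem ha (hconj _ hb)
      inv_mem' := by
        rintro a (ha | ha)
        · exact Or.inl (inv_mem ha)
        · right
          show a⁻¹ * y ∈ K
          have : a⁻¹ * y = y * (a * y)⁻¹ * y := by
            rw [mul_inv_rev, hyi]
            calc a⁻¹ * y = 1 * a⁻¹ * y := by group
              _ = (y * y) * a⁻¹ * y := by rw [hyy]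
              _ = _ := by group
          rw [this]
          exact hconj _ (inv_mem ha) }
  constructor
  · intro hx
    have hle : K ⊔ zpowers y ≤ S := by
      apply sup_le
      · intro k hk
        exact Or.inl hk
      · rw [zpowers_le]
        right
        show y * y ∈ K
        rw [hyy]; exact K.one_mem
    exact hle hx
  · rintro (hx | hx)
    · exact (le_sup_left : K ≤ _) hx
    · have : x = x * y * y := by rw [mul_assoc, hyy, mul_one]
      rw [this]
      exact mul_mem ((le_sup_left : K ≤ _) hx) ((le_sup_right : zpowers y ≤ _) (mem_zpowers y))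

theorem card_sup_zpowers [Finite G] {K : Subgroup G} {y : G} (hy : y ∈ N K) (hyy : y * y = 1)
    (hyK : y ∉ K) : Nat.card ↥(K ⊔ zpowers y) = 2 * Nat.card K := by
  have hidx : (K.subgroupOf (K ⊔ zpowers y)).index = 2 := by
    rw [index_eq_two_iff]
    refine ⟨⟨y, (le_sup_right : zpowers y ≤ _) (mem_zpowers y)⟩, fun b => ?_⟩
    rw [mem_subgroupOf, mem_subgroupOf]
    show Xor ((b : G) * y ∈ K) ((b : G) ∈ K)
    rcases (mem_sup_zpowers hy hyy).1 b.2 with h | h
    · refine Or.inr ⟨h, fun h' => hyK ?_⟩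
      have := mul_mem (inv_mem h) h'
      rwa [inv_mul_cancel_left] at this
    · refine Or.inl ⟨h, fun h' => hyK ?_⟩
      have := mul_mem (inv_mem h') h
      rwa [inv_mul_cancel_left] at this
  have h1 := (K.subgroupOf (K ⊔ zpowers y)).card_mul_index
  rw [hidx, Nat.card_congr (subgroupOfEquivOfLe (le_sup_left : K ≤ K ⊔ zpowers y)).toEquiv] at h1
  omega

/-- **growth**: `y` normalizes `K`, `4 ∣ |K|` but `4 ∤ |C_K(y)|`, `t` an involution of `C_K(y)` -/
theorem growth [Finite G] {K : Subgroup G} {y t : G} (hy : y ∈ N K) (hyy : y * y = 1) (hyK : y ∉ K)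
    (ht : t ∈ K) (ht1 : t ≠ 1) (htt : t * t = 1) (hty : t * y = y * t) (h4 : 4 ∣ Nat.card K)
    (h4' : ¬ 4 ∣ Nat.card ↥(K ⊓ centralizer {y})) :
    ∃ c ∈ K, c * t = t * c ∧ c * y * c⁻¹ = t * y := by
  have hy1 : y ≠ 1 := fun e => hyK (e ▸ K.one_mem)
  set L := K ⊔ zpowers y with hL
  have h8 : 2 ^ 3 ∣ Nat.card L := by
    rw [hL, card_sup_zpowers hy hyy hyK]
    obtain ⟨m, hm⟩ := h4
    exact ⟨m, by rw [hm]; ring⟩
  have hKL : K ≤ L := le_sup_left
  have hyL : y ∈ L := (le_sup_right : zpowers y ≤ _) (mem_zpowers y)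
  obtain ⟨P, hP, hFP, hPL, hdvd⟩ := exists_two_subgroup L (four t y htt hyy hty)
    (isPGroup_of_sq fun x hx => four_sq hx) (by
      rintro x (rfl | rfl | rfl | rfl)
      · exact one_mem _
      · exact hKL ht
      · exact hyL
      · exact mul_mem (hKL ht) hyL)
  have h8P : 8 ∣ Nat.card P := by simpa using hdvd 3 h8
  have htP : t ∈ P := hFP (Or.inr (Or.inl rfl))
  have hyP : y ∈ P := hFP (Or.inr (Or.inr (Or.inl rfl)))
  have hC2 : ∀ x ∈ P, x ∈ K → x * y = y * x → x = 1 ∨ x = t := by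
    intro x hxP hxK hxy
    exact eq_or_eq_of_not_four (Q := P ⊓ (K ⊓ centralizer {y})) (hP.to_le inf_le_left) inf_le_right
      h4' ⟨htP, ht, mem_cent.2 hty⟩ ht1 ⟨hxP, hxK, mem_cent.2 hxy⟩
  have hC1 : P ⊓ centralizer {y} ≤ four t y htt hyy hty := by
    rintro x ⟨hxP, hxy⟩
    have hxy : x * y = y * x := mem_cent.1 hxy
    rcases (mem_sup_zpowers hy hyy).1 (hPL hxP) with h | h
    · rcases hC2 x hxP h hxy with h1 | h1
      · exact Or.inl h1
      · exact Or.inr (Or.inl h1)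
    · have h2 := hC2 (x * y) (mul_mem hxP hyP) h (by rw [mul_assoc, hyy, ← mul_assoc, ← hxy,
        mul_assoc, hyy])
      have h3 : x = x * y * y := by rw [mul_assoc, hyy, mul_one]
      rcases h2 with h2 | h2
      · right; right; left
        rw [h3, h2, one_mul]
      · right; right; right
        rw [h3, h2]
  have hne : P ⊓ centralizer {y} ≠ P := by
    intro e
    have h1 : Nat.card P ≤ 4 := by
      rw [← e]
      exact (card_le_of_le hC1).trans card_four_le
    have h2 := Nat.le_of_dvd Nat.card_pos h8P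
    omega
  obtain ⟨c, hcP, hcD, hnorm⟩ := exists_normalizing P (P ⊓ centralizer {y}) hP inf_le_left hne
  have hyD : y ∈ P ⊓ centralizer {y} := ⟨hyP, mem_cent.2 rfl⟩
  have htD : t ∈ P ⊓ centralizer {y} := ⟨htP, mem_cent.2 hty⟩
  -- replace `c` by an element of `K`
  obtain ⟨d, hdK, hdP, hdD, hdn⟩ : ∃ d ∈ K, d ∈ P ∧ d ∉ P ⊓ centralizer {y} ∧
      ∀ x ∈ P ⊓ centralizer {y}, d * x * d⁻¹ ∈ P ⊓ centralizer {y} := by
    rcases (mem_sup_zpowers hy hyy).1 (hPL hcP) with h | h
    · exact ⟨c, h, hcP, hcD, hnorm⟩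
    · refine ⟨c * y, h, mul_mem hcP hyP, ?_, ?_⟩
      · intro h'
        apply hcD
        have := mul_mem h' (inv_mem hyD)
        rwa [mul_inv_cancel_right] at this
      · intro x hx
        rw [show c * y * x * (c * y)⁻¹ = c * (y * x * y⁻¹) * c⁻¹ by group]
        exact hnorm _ (mul_mem (mul_mem hyD hx) (inv_mem hyD))
  refine ⟨d, hdK, ?_, ?_⟩
  · have h1 := hdn t htD
    have h2 : d * t * d⁻¹ ∈ K := mul_mem (mul_mem hdK ht) (inv_mem hdK)
    rcases hC2 _ h1.1 h2 (mem_cent.1 h1.2) with h3 | h3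
    · exfalso
      apply ht1
      rw [show t = d⁻¹ * (d * t * d⁻¹) * d by group, h3]; group
    · exact mul_inv_eq_iff_eq_mul.1 h3
  · have h1 := hC1 (hdn y hyD)
    rcases h1 with h1 | h1 | h1 | h1
    · exfalso
      apply hy1
      rw [show y = d⁻¹ * (d * y * d⁻¹) * d by group, h1]; group
    · exfalso
      apply hyK
      rw [show y = d⁻¹ * (d * y * d⁻¹) * d by group, h1]
      exact mul_mem (mul_mem (inv_mem hdK) ht) hdK
    · exfalso
      exact hdD ⟨hdP, mem_cent.2 (mul_inv_eq_iff_eq_mul.1 h1)⟩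
    · exact h1

/-- conjugacy in a group with Sylow 2-subgroups of order four and a central involution -/
theorem conj_in_four [Finite G] (L : Subgroup G) (h8 : ¬ 8 ∣ Nat.card L) {s s' y : G} (hs : s ∈ L)
    (hs' : s' ∈ L) (hy : y ∈ L) (hyc : ∀ x ∈ L, x * y = y * x) (hy1 : y ≠ 1) (hyy : y * y = 1)
    (hs1 : s ≠ 1) (hsy : s ≠ y) (hss : s * s = 1) (hs1' : s' ≠ 1) (hsy' : s' ≠ y)
    (hss' : s' * s' = 1) : ∃ g ∈ L, g * s' * g⁻¹ = s ∨ g * s' * g⁻¹ = s * y := by
  have hF1 : four s y hss hyy (hyc s hs) ≤ L := by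
    rintro x (rfl | rfl | rfl | rfl)
    · exact one_mem _
    · exact hs
    · exact hy
    · exact mul_mem hs hy
  have hF2 : four s' y hss' hyy (hyc s' hs') ≤ L := by
    rintro x (rfl | rfl | rfl | rfl)
    · exact one_mem _
    · exact hs'
    · exact hy
    · exact mul_mem hs' hy
  obtain ⟨g, hg, hconj⟩ := exists_conj_le L _ _ (isPGroup_of_sq fun x hx => four_sq hx)
    (isPGroup_of_sq fun x hx => four_sq hx) hF1 hF2 (by
      intro P hP hFP hPL
      symm
      apply Subgroup.eq_of_le_of_card_ge hFP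
      rw [card_four hs1 hy1 hsy]
      obtain ⟨n, hn⟩ := IsPGroup.iff_card.1 hP
      have h1 : Nat.card P ∣ Nat.card L := card_dvd_of_le hPL
      rw [hn]
      have hn2 : n ≤ 2 := by
        by_contra hcon
        push Not at hcon
        apply h8
        have h2 : (2 : ℕ) ^ 3 ∣ 2 ^ n := pow_dvd_pow 2 hcon
        exact (by simpa using h2 : (8 : ℕ) ∣ 2 ^ n).trans (hn ▸ h1)
      calc 2 ^ n ≤ 2 ^ 2 := Nat.pow_le_pow_right (by norm_num) hn2
        _ = 4 := by norm_num)
  refine ⟨g, hg, ?_⟩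
  rcases hconj s' (Or.inr (Or.inl rfl)) with h | h | h | h
  · exfalso
    apply hs1'
    rw [show s' = g⁻¹ * (g * s' * g⁻¹) * g by group, h]; group
  · exact Or.inl h
  · exfalso
    apply hsy'
    rw [show s' = g⁻¹ * (g * s' * g⁻¹) * g by group, h, mul_assoc, ← hyc g hg,
      inv_mul_cancel_left]
  · exact Or.inr h

/-! ### good pairs -/

/-- an involution `y` inducing an outer automorphism on `A` commutes with an involution `s` of `A` such that `s y`
and `y` are conjugate under `A` -/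
def Outer (A : Subgroup G) : Prop :=
  ∀ y ∈ N A, y ≠ 1 → y * y = 1 → (∀ a ∈ A, a * y ∉ C A) →
    ∃ s ∈ A, s ≠ 1 ∧ s * s = 1 ∧ s * y = y * s ∧ ∃ w ∈ A, w * y * w⁻¹ = s * y

variable {A B : Subgroup G}

/-- some good pair exists -/
def Good (A : Subgroup G) : Prop := ∃ B, Cj A B ∧ A ≠ B ∧ 4 ∣ Nat.card ↥(C A ⊓ N B)

theorem good_of_pair {B₁ B₂ : Subgroup G} (h₁ : Cj A B₁) (h₂ : Cj A B₂) (hne : B₁ ≠ B₂)
    (h : 4 ∣ Nat.card ↥(C B₁ ⊓ N B₂)) : Good A := by
  obtain ⟨g, rfl⟩ := h₁.exists_eq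
  refine ⟨Conj.cj g⁻¹ B₂, h₂.trans (Cj.cj _ _), ?_, ?_⟩
  · intro e
    apply hne
    rw [e, cj_cj, mul_inv_cancel]
    ext x
    rw [mem_cj]
    simp
  · rw [card_eq_of_conj (g := g) (B := C (Conj.cj g A) ⊓ N B₂)]
    · exact h
    · intro x
      rw [mem_inf, mem_inf, mem_C_cj, mem_N_cj, inv_inv,
        show g⁻¹ * (g * x * g⁻¹) * g = x by group]

/-- if an involution of `A` centralizes a conjugate of `A` then there is a good pair -/
theorem good_of_mem (hA : TE A) (h4 : 4 ∣ Nat.card (C A)) (hB : Cj A B) {s : G} (hs : s ∈ A)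
    (hs1 : s ≠ 1) (hss : s * s = 1) (hsB : s ∈ C B) : Good A := by
  have hBt : TE B := hA.of_cj hB
  refine ⟨B, hB, ?_, ?_⟩
  · rintro rfl
    exact hs1 (hA.disj s hs hsB)
  · have : C A ⊓ N B = C A := by
      rw [inf_eq_left]
      intro k hk
      exact hBt.nrm hsB hs1 hss (comm_of_C hk hs)
    rw [this]
    exact h4

theorem exists_good_pair [Finite G] (hA : TE A) (h4 : 4 ∣ Nat.card (C A)) (hout : Outer A)
    (hB : Cj A B) (hne : A ≠ B) {y : G} (hy : y ∈ C B) (hyA : y ∈ N A) (hy1 : y ≠ 1)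
    (hyy : y * y = 1) : Good A := by
  by_contra hno
  have hBt : TE B := hA.of_cj hB
  have hyC : y ∉ C A := fun h => hne (hA.eq_of_mem hB hy1 hyy h hy)
  -- an involution `t` of `C A` commuting with `y`
  have h2 : Even (Nat.card (C A)) := even_iff_two_dvd.2 (Dvd.dvd.trans (by norm_num) h4)
  obtain ⟨t, htA, hot, hyt⟩ :=
    Cfsg.Agent.SignalizersComponents.StandardTools.exists_involution_commute h2 hyy
      (N_le_N_C hyA)
  have ht1 : t ≠ 1 := by
    rintro rfl
    rw [orderOf_one] at hot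
    exact absurd hot (by norm_num)
  have htt : t * t = 1 := by
    rw [← sq, ← hot]; exact pow_orderOf_eq_one t
  have hty : t * y = y * t := hyt.symm
  have htB : t ∈ N B := hBt.nrm hy hy1 hyy hty
  have htC : t ∉ C B := fun h => hne (hA.eq_of_mem hB ht1 htt htA h)
  -- centralizers
  have hU : ¬ 4 ∣ Nat.card ↥(C A ⊓ centralizer {y}) := by
    intro h
    apply hno
    refine ⟨B, hB, hne, h.trans (card_dvd_of_le (le_inf inf_le_left ?_))⟩
    rintro x ⟨-, hx⟩
    exact hBt.nrm hy hy1 hyy (mem_cent.1 hx)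
  have hU' : ¬ 4 ∣ Nat.card ↥(C B ⊓ centralizer {t}) := by
    intro h
    apply hno
    refine good_of_pair hB (Cj.refl A) (Ne.symm hne) (h.trans (card_dvd_of_le (le_inf inf_le_left ?_)))
    rintro x ⟨-, hx⟩
    exact hA.nrm htA ht1 htt (mem_cent.1 hx)
  obtain ⟨c, hcA, hct, hcy⟩ := growth (N_le_N_C hyA) hyy hyC htA ht1 htt hty h4 hU
  obtain ⟨c', hcB, hcy', hct'⟩ := growth (N_le_N_C htB) htt htC hy hy1 hyy hyt
    (hB.card_C ▸ h4) hU'
  -- `y` is outer
  have houter : ∀ a ∈ A, a * y ∉ C A := by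
    intro a ha hk
    set k := a * y with hkdef
    have hak : a * k = k * a := (comm_of_C hk ha).symm
    have hai : a⁻¹ * k = k * a⁻¹ := (comm_of_C hk (inv_mem ha)).symm
    have hyeq : y = a⁻¹ * k := by rw [hkdef, inv_mul_cancel_left]
    have hkk : k * k = 1 := by
      have h1 : (a⁻¹ * k) * (a⁻¹ * k) = 1 := by rw [← hyeq, hyy]
      have h2 : (a⁻¹ * k) * (a⁻¹ * k) = (a⁻¹ * a⁻¹) * (k * k) := by
        rw [mul_assoc, ← mul_assoc k, ← hai]; group
      rw [h2] at h1
      have h3 : k * k = a * a := by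
        have := eq_inv_of_mul_eq_one_right h1
        rw [this, mul_inv_rev, inv_inv]
      have h4 : k * k ∈ A := h3 ▸ mul_mem ha ha
      exact hA.disj _ h4 (mul_mem hk hk)
    apply hU
    have h5 := four_dvd_centralizer (C A) h4 hk hkk
    refine h5.trans (card_dvd_of_le (le_inf inf_le_left ?_))
    rintro x ⟨hx, hxk⟩
    replace hxk := mem_cent.1 hxk
    rw [mem_cent]
    calc x * y = x * (a⁻¹ * k) := by rw [← hyeq]
      _ = (x * a⁻¹) * k := by group
      _ = a⁻¹ * (x * k) := by rw [comm_of_C hx (inv_mem ha), mul_assoc]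
      _ = (a⁻¹ * k) * x := by rw [hxk]; exact (mul_assoc _ _ _).symm
      _ = y * x := by rw [← hyeq]
  obtain ⟨s, hsA, hs1, hss, hsy, w, hwA, hw⟩ := hout y hyA hy1 hyy houter
  have hts : t * s = s * t := comm_of_C htA hsA
  have hsB : s ∈ N B := hBt.nrm hy hy1 hyy hsy
  have hsCB : s ∉ C B := fun h => hno (good_of_mem hA h4 hB hsA hs1 hss h)
  have hsi : s⁻¹ = s := inv_eq_of_mul_eq_one_left hss
  -- the group `W = C_J(t) ∩ C(y)`
  set W := (C B ⊓ centralizer {t}) ⊓ centralizer {y} with hW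
  have hW4 : ¬ 4 ∣ Nat.card W := fun h => hU' (h.trans (card_dvd_of_le inf_le_left))
  have hyW : y ∈ W := ⟨⟨hy, mem_cent.2 hyt⟩, mem_cent.2 rfl⟩
  have hsW : s ∈ N W := by
    refine mem_N_of fun x hx => ?_
    obtain ⟨⟨hx1, hx2⟩, hx3⟩ := hx
    replace hx2 := mem_cent.1 hx2
    replace hx3 := mem_cent.1 hx3
    refine ⟨⟨conj_mem_C hsB hx1, mem_cent.2 ?_⟩, mem_cent.2 ?_⟩
    · calc s * x * s⁻¹ * t = s * x * (s⁻¹ * t) := by group
        _ = s * x * (t * s⁻¹) := by rw [hsi, hts]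
        _ = s * (x * t) * s⁻¹ := by group
        _ = (s * t) * x * s⁻¹ := by rw [hx2]; group
        _ = t * (s * x * s⁻¹) := by rw [← hts]; group
    · calc s * x * s⁻¹ * y = s * x * (s⁻¹ * y) := by group
        _ = s * x * (y * s⁻¹) := by rw [hsi, hsy]
        _ = s * (x * y) * s⁻¹ := by group
        _ = (s * y) * x * s⁻¹ := by rw [hx3]; group
        _ = y * (s * x * s⁻¹) := by rw [hsy]; group
  have hsW' : s ∉ W := fun h => hsCB h.1.1
  set L := W ⊔ zpowers s with hL
  have h8 : ¬ 8 ∣ Nat.card L := by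
    rw [hL, card_sup_zpowers hsW hss hsW']
    intro h
    apply hW4
    obtain ⟨m, hm⟩ := h
    exact ⟨m, by omega⟩
  have hWL : W ≤ L := le_sup_left
  have hsL : s ∈ L := (le_sup_right : zpowers s ≤ _) (mem_zpowers s)
  have hLc : ∀ x ∈ L, x * t = t * x ∧ x * y = y * x := by
    have hle : L ≤ centralizer {t} ⊓ centralizer {y} := by
      apply sup_le
      · rintro x ⟨⟨-, h1⟩, h2⟩
        exact ⟨h1, h2⟩
      · rw [zpowers_le]
        exact ⟨mem_cent.2 hts.symm, mem_cent.2 hsy⟩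
    intro x hx
    exact ⟨mem_cent.1 (hle hx).1, mem_cent.1 (hle hx).2⟩
  -- the conjugate `s'`
  set s' := c' * s * c'⁻¹ with hs'
  have hcy'i : c'⁻¹ * y = y * c'⁻¹ := by
    rw [inv_mul_eq_iff_eq_mul, ← mul_assoc, hcy', mul_inv_cancel_right]
  have hs'y : s' * y = y * s' := by
    calc c' * s * c'⁻¹ * y = c' * s * (c'⁻¹ * y) := by group
      _ = c' * (s * y) * c'⁻¹ := by rw [hcy'i]; group
      _ = (c' * y) * s * c'⁻¹ := by rw [hsy]; group
      _ = y * (c' * s * c'⁻¹) := by rw [hcy']; group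
  have hs'yt : s' * (y * t) = (y * t) * s' := by
    rw [← hct']
    calc c' * s * c'⁻¹ * (c' * t * c'⁻¹) = c' * (s * t) * c'⁻¹ := by group
      _ = c' * (t * s) * c'⁻¹ := by rw [hts]
      _ = c' * t * c'⁻¹ * (c' * s * c'⁻¹) := by group
  have hs't : s' * t = t * s' := by
    have e : t = y * (y * t) := by rw [← mul_assoc, hyy, one_mul]
    rw [e, ← mul_assoc, hs'y, mul_assoc, hs'yt, ← mul_assoc]
  have hs's : s' * s ∈ W := by
    refine ⟨⟨?_, ?_⟩, ?_⟩
    · have e : s' * s = c' * (s * c'⁻¹ * s⁻¹) := by rw [hs', hsi]; group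
      rw [e]
      exact mul_mem hcB (conj_mem_C hsB (inv_mem hcB))
    · refine mem_cent.2 ?_
      rw [mul_assoc, ← hts, ← mul_assoc, hs't, mul_assoc]
    · refine mem_cent.2 ?_
      rw [mul_assoc, hsy, ← mul_assoc, hs'y, mul_assoc]
  have hs'L : s' ∈ L := by
    have e : s' = s' * s * s := by rw [mul_assoc, hss, mul_one]
    rw [e]
    exact mul_mem (hWL hs's) hsL
  have hs's' : s' * s' = 1 := by
    rw [hs', show c' * s * c'⁻¹ * (c' * s * c'⁻¹) = c' * (s * s) * c'⁻¹ by group, hss]; group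
  have hs'1 : s' ≠ 1 := by
    intro e
    apply hs1
    rw [show s = c'⁻¹ * s' * c' by rw [hs']; group, e]; group
  have hsney : s ≠ y := fun e => hsCB (e ▸ hy)
  have hs'ney : s' ≠ y := by
    intro e
    apply hsney
    rw [show s = c'⁻¹ * s' * c' by rw [hs']; group, e, hcy'i, inv_mul_cancel_right]
  obtain ⟨g, hgL, hg⟩ := conj_in_four L h8 hsL hs'L (hWL hyW) (fun x hx => (hLc x hx).2) hy1 hyy
    hs1 hsney hss hs'1 hs'ney hs's'
  obtain ⟨hgt, hgy⟩ := hLc g hgL
  rcases hg with hg | hg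
  · -- `g c'` commutes with `s`
    set e := g * c' with he
    have hes : e * s * e⁻¹ = s := by
      rw [he, show g * c' * s * (g * c')⁻¹ = g * (c' * s * c'⁻¹) * g⁻¹ by group]
      exact hg
    have het : e * t * e⁻¹ = y * t := by
      rw [he, show g * c' * t * (g * c')⁻¹ = g * (c' * t * c'⁻¹) * g⁻¹ by group, hct',
        show g * (y * t) * g⁻¹ = (g * y) * t * g⁻¹ by group, hgy,
        show y * g * t * g⁻¹ = y * (g * t) * g⁻¹ by group, hgt]; group
    set d := c * e with hd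
    have hdt : d * t * d⁻¹ = y := by
      rw [hd, show c * e * t * (c * e)⁻¹ = c * (e * t * e⁻¹) * c⁻¹ by group, het,
        show c * (y * t) * c⁻¹ = (c * y * c⁻¹) * (c * t) * c⁻¹ by group, hcy, hct]
      rw [show t * y * (t * c) * c⁻¹ = t * (y * t) by group, hyt, ← mul_assoc, htt, one_mul]
    have hds : d * s * d⁻¹ = s := by
      rw [hd, show c * e * s * (c * e)⁻¹ = c * (e * s * e⁻¹) * c⁻¹ by group, hes,
        comm_of_C hcA hsA]; group
    have hdts : d * (t * s) * d⁻¹ = w * y * w⁻¹ := by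
      rw [show d * (t * s) * d⁻¹ = (d * t * d⁻¹) * (d * s * d⁻¹) by group, hdt, hds, hw, hsy]
    -- `t s` lies in the centralizer of a conjugate of `A`
    have hts' : t * s = (d⁻¹ * w) * y * (d⁻¹ * w)⁻¹ := by
      rw [show (d⁻¹ * w) * y * (d⁻¹ * w)⁻¹ = d⁻¹ * (w * y * w⁻¹) * d by group, ← hdts]; group
    have htsC : t * s ∈ C (Conj.cj (d⁻¹ * w) B) := by
      rw [mem_C_cj, hts',
        show (d⁻¹ * w)⁻¹ * (d⁻¹ * w * y * (d⁻¹ * w)⁻¹) * (d⁻¹ * w) = y by group]
      exact hy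
    have hts1 : t * s ≠ 1 := by
      intro e1
      rw [hts'] at e1
      apply hy1
      rw [show y = (d⁻¹ * w)⁻¹ * (d⁻¹ * w * y * (d⁻¹ * w)⁻¹) * (d⁻¹ * w) by group, e1]; group
    have htsts : t * s * (t * s) = 1 := by
      calc t * s * (t * s) = t * s * (s * t) := by rw [← hts]
        _ = t * (s * s) * t := by group
        _ = 1 := by rw [hss, mul_one, htt]
    have hCj : Cj A (Conj.cj (d⁻¹ * w) B) := hB.trans (Cj.cj _ _)
    apply hno
    refine ⟨_, hCj, ?_, ?_⟩
    · intro e1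
      rw [← e1] at htsC
      have h1 : s ∈ C A := by
        have := mul_mem (inv_mem htA) htsC
        rwa [inv_mul_cancel_left] at this
      exact hs1 (hA.disj s hsA h1)
    · refine (four_dvd_centralizer (C A) h4 htA htt).trans (card_dvd_of_le (le_inf inf_le_left ?_))
      rintro x ⟨hx, hxt⟩
      replace hxt := mem_cent.1 hxt
      refine (hA.of_cj hCj).nrm htsC hts1 htsts ?_
      rw [← mul_assoc, hxt, mul_assoc, comm_of_C hx hsA, mul_assoc]
  · -- `s` is conjugate to `y`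
    have h1 : (g * c') * s * (g * c')⁻¹ = w * y * w⁻¹ := by
      rw [show g * c' * s * (g * c')⁻¹ = g * (c' * s * c'⁻¹) * g⁻¹ by group, ← hs', hg, hw]
    have h2 : s ∈ C (Conj.cj ((g * c')⁻¹ * w) B) := by
      rw [mem_C_cj, show ((g * c')⁻¹ * w)⁻¹ * s * ((g * c')⁻¹ * w) =
        w⁻¹ * ((g * c') * s * (g * c')⁻¹) * w by group, h1,
        show w⁻¹ * (w * y * w⁻¹) * w = y by group]
      exact hy
    exact hno (good_of_mem hA h4 (hB.trans (Cj.cj _ _)) hsA hs1 hss h2)

end Cfsg.Agent.StdAlt.Pairs
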